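import Cfsg.Agent.Lib.CosetCert.D.HeN.Tbl
import Cfsg.Agent.Lib.CosetCert.D.HeN.St0.CT

namespace Cfsg.Agent.Lib.CosetCert.D.HeN.St0.Tab

open Cfsg.Agent.Lib.CosetCert Cfsg.Agent.Lib.TC.Core Cfsg.Agent.Lib.TC.Enc Cfsg.Agent.Lib.TC.Pres Cfsg.Agent.Lib.TC.Perm Cfsg.Agent.Lib.TC.Main

set_option maxRecDepth 100000

open Cfsg.Agent.Lib.CosetCert.D.HeN.Tbl

/-- The chunks. -/
noncomputable def ctree : Tr Nat := Cfsg.Agent.Lib.CosetCert.D.HeN.St0.CT.tree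

/-- The relator rotations. -/
noncomputable def rotT : Tr (List Nat) := (Tr.node (Tr.node (Tr.node (Tr.node (Tr.node (Tr.node (Tr.node (Tr.leaf []) (Tr.leaf [0,2,1,0,3,1,3,1,3,2,1,0,1,2,0,1,3,0,2,3,1])) (Tr.node (Tr.leaf [5,2,5,3,2,3]) (Tr.leaf []))) (Tr.node (Tr.node (Tr.leaf [3,2,3,2]) (Tr.leaf [])) (Tr.node (Tr.leaf [2,1,0,1,0,1,2,1,0,1,2,0,1,0,1]) (Tr.leaf [])))) (Tr.node (Tr.node (Tr.node (Tr.leaf [4,0,5,0]) (Tr.leaf [])) (Tr.node (Tr.leaf [0,3,0,1,3,1,3,1]) (Tr.leaf []))) (Tr.node (Tr.node (Tr.leaf [5,0,4,3,0,3]) (Tr.leaf [])) (Tr.node (Tr.leaf [1,2,3,1,0,1,2,3,1,0,1,2,3,1,0,1,3,2,1,0]) (Tr.leaf []))))) (Tr.node (Tr.node (Tr.node (Tr.node (Tr.leaf [0,2,0,2]) (Tr.leaf [3,3])) (Tr.node (Tr.leaf [3,5,3,5,3,5]) (Tr.leaf []))) (Tr.node (Tr.node (Tr.leaf [2,5,2,5]) (Tr.leaf [])) (Tr.node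 (Tr.leaf [0,1,0,1,0,1,3,1,0,1,0,1,0,1,0,1,3,1,0,1]) (Tr.leaf [])))) (Tr.node (Tr.node (Tr.node (Tr.leaf [1,4,1,4]) (Tr.leaf [])) (Tr.node (Tr.leaf [2,4,2,1,3,4,3,4,3,1]) (Tr.leaf []))) (Tr.node (Tr.node (Tr.leaf [3,1,3,1,3,1]) (Tr.leaf [])) (Tr.node (Tr.leaf [1,0,2,1,0,1,2,3,1,0,3,0,1,3,0,1,0,1,2,1,0]) (Tr.leaf [])))))) (Tr.node (Tr.node (Tr.node (Tr.node (Tr.node (Tr.leaf [5,5,5]) (Tr.leaf [1,1])) (Tr.node (Tr.leaf [4,3,4,3,4,3]) (Tr.leaf []))) (Tr.node (Tr.node (Tr.leaf [4,2,4,2]) (Tr.leaf [])) (Tr.node (Tr.leaf [0,2,1,0,1,2,1,0,1,0,1,2,1,0,1]) (Tr.leaf [])))) (Tr.node (Tr.node (Tr.node (Tr.leaf [5,0,4,0]) (Tr.leaf [])) (Tr.node (Tr.leaf [3,2,3,1,2,1,2,1]) (Tr.leaf []))) (Tr.node (Tr.node (Tr.leaf [2,1,2,1,2,1]) (Tr.leaf [])) (Tr.node (Tr.leaf [0,1,2,3,1,0,1,3,2,1,0,1,2,3,1,0,1,2,3,1]) (Tr.leaf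 []))))) (Tr.node (Tr.node (Tr.node (Tr.node (Tr.leaf [0,3,0,3]) (Tr.leaf [5,4])) (Tr.node (Tr.leaf [3,4,3,4,3,5,5]) (Tr.leaf []))) (Tr.node (Tr.node (Tr.leaf [4,0,5,3,0,3]) (Tr.leaf [])) (Tr.node (Tr.leaf [0,1,3,1,0,1,0,1,0,1,0,1,3,1,0,1,0,1,0,1]) (Tr.leaf [])))) (Tr.node (Tr.node (Tr.node (Tr.leaf [1,5,1,5]) (Tr.leaf [])) (Tr.node (Tr.leaf [1,0,1,2,1,0,1,0,1,2,1,0,1,2,0]) (Tr.leaf []))) (Tr.node (Tr.node (Tr.leaf [4,2,4,3,2,3]) (Tr.leaf [])) (Tr.node (Tr.leaf [2,1,0,1,3,1,0,2,1,0,1,3,1,2,0,1,0,1,3,1,0]) (Tr.leaf []))))))) (Tr.node (Tr.node (Tr.node (Tr.node (Tr.node (Tr.node (Tr.leaf [4,4,4]) (Tr.leaf [0,0])) (Tr.node (Tr.leaf [3,2,3,5,2,5]) (Tr.leaf []))) (Tr.node (Tr.node (Tr.leaf [2,3,2,3]) (Tr.leaf [])) (Tr.node (Tr.leaf [0,1,0,1,2,1,0,1,2,0,1,0,1,2,1]) (Tr.leaf [])))) (Tr.node (Tr.node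 (Tr.node (Tr.leaf [0,5,0,4]) (Tr.leaf [])) (Tr.node (Tr.leaf [1,2,1,2,1,3,2,3]) (Tr.leaf []))) (Tr.node (Tr.node (Tr.leaf [3,0,3,5,0,4]) (Tr.leaf [])) (Tr.node (Tr.leaf [0,1,2,3,1,0,1,2,3,1,0,1,3,2,1,0,1,2,3,1]) (Tr.leaf []))))) (Tr.node (Tr.node (Tr.node (Tr.node (Tr.leaf [3,0,3,0]) (Tr.leaf [4,5])) (Tr.node (Tr.leaf [5,3,5,3,5,3]) (Tr.leaf []))) (Tr.node (Tr.node (Tr.leaf [5,2,5,2]) (Tr.leaf [])) (Tr.node (Tr.leaf [1,0,1,0,1,3,1,0,1,0,1,0,1,0,1,3,1,0,1,0]) (Tr.leaf [])))) (Tr.node (Tr.node (Tr.node (Tr.leaf [4,1,4,1]) (Tr.leaf [])) (Tr.node (Tr.leaf [0,1,0,1,2,1,0,1,0,1,2,1,0,1,2]) (Tr.leaf []))) (Tr.node (Tr.node (Tr.leaf [1,3,1,3,1,3]) (Tr.leaf [])) (Tr.node (Tr.leaf [3,1,0,2,1,0,1,3,1,0,2,1,0,1,3,1,2,0,1,0,1]) (Tr.leaf [])))))) (Tr.node (Tr.node (Tr.node (Tr.node (Tr.node (Tr.leaf [2,0,2,0])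 (Tr.leaf [2,2])) (Tr.node (Tr.leaf [3,4,3,4,3,4]) (Tr.leaf []))) (Tr.node (Tr.node (Tr.leaf [2,4,2,4]) (Tr.leaf [])) (Tr.node (Tr.leaf [0,1,0,1,0,1,2,1,0,1,0,1,0,1,0,1,2,1,0,1]) (Tr.leaf [])))) (Tr.node (Tr.node (Tr.node (Tr.leaf [4,1,4,1]) (Tr.leaf [])) (Tr.node (Tr.leaf [0,5,0,1,3,4,3,4,3,1]) (Tr.leaf []))) (Tr.node (Tr.node (Tr.leaf [1,2,1,2,1,2]) (Tr.leaf [])) (Tr.node (Tr.leaf [4,0,1,3,5,2,0,1,3,4,1,4,3,1,0,2,5,3,1,0]) (Tr.leaf []))))) (Tr.node (Tr.node (Tr.node (Tr.node (Tr.leaf [0,4,0,5]) (Tr.leaf [])) (Tr.node (Tr.leaf [0,2,0,1,2,1,2,1]) (Tr.leaf []))) (Tr.node (Tr.node (Tr.leaf [3,0,3,4,0,5]) (Tr.leaf [])) (Tr.node (Tr.leaf [3,1,0,1,0,1,0,1,0,3,1,3,0,1,0,1,0,1,0,1]) (Tr.leaf [])))) (Tr.node (Tr.node (Tr.node (Tr.leaf [5,1,5,1]) (Tr.leaf [])) (Tr.node (Tr.leaf [0,1,2,1,0,1,0,1,2,1,0,1,2,0,1])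 (Tr.leaf []))) (Tr.node (Tr.node (Tr.leaf [3,2,3,4,2,4]) (Tr.leaf [])) (Tr.node (Tr.leaf [1,0,1,3,1,2,0,1,3,0,1,2,0,1,3,1,0,1,0,2,3]) (Tr.leaf []))))))))

/-- The witnesses of the rotations. -/
noncomputable def witT : Tr (Nat × Nat × Bool) := (Tr.node (Tr.node (Tr.node (Tr.node (Tr.node (Tr.node (Tr.node (Tr.leaf (0,0,false)) (Tr.leaf (28,10,false))) (Tr.node (Tr.leaf (11,1,true)) (Tr.leaf (0,0,false)))) (Tr.node (Tr.node (Tr.leaf (5,1,false)) (Tr.leaf (0,0,false))) (Tr.node (Tr.leaf (19,4,false)) (Tr.leaf (0,0,false))))) (Tr.node (Tr.node (Tr.node (Tr.leaf (3,1,false)) (Tr.leaf (0,0,false))) (Tr.node (Tr.leaf (15,6,false)) (Tr.leaf (0,0,false)))) (Tr.node (Tr.node (Tr.leaf (8,2,false)) (Tr.leaf (0,0,false))) (Tr.node (Tr.leaf (23,1,false)) (Tr.leaf (0,0,false)))))) (Tr.node (Tr.node (Tr.node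 (Tr.node (Tr.leaf (1,2,false)) (Tr.leaf (29,3,false))) (Tr.node (Tr.leaf (12,1,true)) (Tr.leaf (0,0,false)))) (Tr.node (Tr.node (Tr.leaf (6,1,true)) (Tr.leaf (0,0,false))) (Tr.node (Tr.leaf (21,2,false)) (Tr.leaf (0,0,false))))) (Tr.node (Tr.node (Tr.node (Tr.leaf (4,2,false)) (Tr.leaf (0,0,false))) (Tr.node (Tr.leaf (18,1,false)) (Tr.leaf (0,0,false)))) (Tr.node (Tr.node (Tr.leaf (10,1,false)) (Tr.leaf (0,0,false))) (Tr.node (Tr.leaf (25,7,false)) (Tr.leaf (0,0,false))))))) (Tr.node (Tr.node (Tr.node (Tr.node (Tr.node (Tr.leaf (0,1,true)) (Tr.leaf (29,1,false))) (Tr.node (Tr.leaf (12,1,false)) (Tr.leaf (0,0,false)))) (Tr.node (Tr.node (Tr.leaf (6,1,false)) (Tr.leaf (0,0,false))) (Tr.node (Tr.leaf (19,14,true)) (Tr.leaf (0,0,false))))) (Tr.node (Tr.node (Tr.node (Tr.leaf (3,3,false)) (Tr.leaf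 (0,0,false))) (Tr.node (Tr.leaf (16,5,false)) (Tr.leaf (0,0,false)))) (Tr.node (Tr.node (Tr.leaf (9,1,false)) (Tr.leaf (0,0,false))) (Tr.node (Tr.leaf (23,10,false)) (Tr.leaf (0,0,false)))))) (Tr.node (Tr.node (Tr.node (Tr.node (Tr.leaf (2,2,false)) (Tr.leaf (29,5,false))) (Tr.node (Tr.leaf (13,0,false)) (Tr.leaf (0,0,false)))) (Tr.node (Tr.node (Tr.leaf (7,2,false)) (Tr.leaf (0,0,false))) (Tr.node (Tr.leaf (21,6,false)) (Tr.leaf (0,0,false))))) (Tr.node (Tr.node (Tr.node (Tr.leaf (4,1,true)) (Tr.leaf (0,0,false))) (Tr.node (Tr.leaf (19,1,false)) (Tr.leaf (0,0,false)))) (Tr.node (Tr.node (Tr.leaf (11,2,false)) (Tr.leaf (0,0,false))) (Tr.node (Tr.leaf (26,7,false)) (Tr.leaf (0,0,false)))))))) (Tr.node (Tr.node (Tr.node (Tr.node (Tr.node (Tr.node (Tr.leaf (0,1,false)) (Tr.leaf (29,0,false)))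 (Tr.node (Tr.leaf (11,4,true)) (Tr.leaf (0,0,false)))) (Tr.node (Tr.node (Tr.leaf (5,2,false)) (Tr.leaf (0,0,false))) (Tr.node (Tr.leaf (19,6,false)) (Tr.leaf (0,0,false))))) (Tr.node (Tr.node (Tr.node (Tr.leaf (3,2,false)) (Tr.leaf (0,0,false))) (Tr.node (Tr.leaf (16,0,false)) (Tr.leaf (0,0,false)))) (Tr.node (Tr.node (Tr.leaf (8,5,false)) (Tr.leaf (0,0,false))) (Tr.node (Tr.leaf (23,5,false)) (Tr.leaf (0,0,false)))))) (Tr.node (Tr.node (Tr.node (Tr.node (Tr.leaf (2,1,false)) (Tr.leaf (29,4,false))) (Tr.node (Tr.leaf (12,2,true)) (Tr.leaf (0,0,false)))) (Tr.node (Tr.node (Tr.leaf (6,2,true)) (Tr.leaf (0,0,false))) (Tr.node (Tr.leaf (21,3,false)) (Tr.leaf (0,0,false))))) (Tr.node (Tr.node (Tr.node (Tr.leaf (4,3,false)) (Tr.leaf (0,0,false))) (Tr.node (Tr.leaf (19,0,false)) (Tr.leaf (0,0,false))))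 (Tr.node (Tr.node (Tr.leaf (10,2,false)) (Tr.leaf (0,0,false))) (Tr.node (Tr.leaf (26,4,false)) (Tr.leaf (0,0,false))))))) (Tr.node (Tr.node (Tr.node (Tr.node (Tr.node (Tr.leaf (1,1,false)) (Tr.leaf (29,2,false))) (Tr.node (Tr.leaf (12,2,false)) (Tr.leaf (0,0,false)))) (Tr.node (Tr.node (Tr.leaf (6,2,false)) (Tr.leaf (0,0,false))) (Tr.node (Tr.leaf (20,2,false)) (Tr.leaf (0,0,false))))) (Tr.node (Tr.node (Tr.node (Tr.leaf (4,1,false)) (Tr.leaf (0,0,false))) (Tr.node (Tr.leaf (17,8,false)) (Tr.leaf (0,0,false)))) (Tr.node (Tr.node (Tr.leaf (9,2,false)) (Tr.leaf (0,0,false))) (Tr.node (Tr.leaf (24,14,false)) (Tr.leaf (0,0,false)))))) (Tr.node (Tr.node (Tr.node (Tr.node (Tr.leaf (3,0,false)) (Tr.leaf (0,0,false))) (Tr.node (Tr.leaf (14,6,false)) (Tr.leaf (0,0,false)))) (Tr.node (Tr.node (Tr.leaf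 (7,5,false)) (Tr.leaf (0,0,false))) (Tr.node (Tr.leaf (22,8,false)) (Tr.leaf (0,0,false))))) (Tr.node (Tr.node (Tr.node (Tr.leaf (4,2,true)) (Tr.leaf (0,0,false))) (Tr.node (Tr.leaf (19,2,false)) (Tr.leaf (0,0,false)))) (Tr.node (Tr.node (Tr.leaf (11,5,false)) (Tr.leaf (0,0,false))) (Tr.node (Tr.leaf (27,2,true)) (Tr.leaf (0,0,false)))))))))

/-- The subgroup rotations. -/
noncomputable def srotT : Tr (List Nat × Nat × List Nat) := (Tr.node (Tr.node (Tr.leaf ([],0,[])) (Tr.leaf ([],2,[]))) (Tr.node (Tr.leaf ([],1,[])) (Tr.leaf ([],3,[]))))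

/-- The certificate. -/
noncomputable def cert : Cert :=
  mkCert 6 259 1539 2 71 75 5 31 213 27 162 201 134217727 549755813887 11 9 2047 511 20 18 7 ctree.get rotT.get srotT.get

/-- The relators. -/
def rels : List (List Nat) :=
  [[4,4,4],
   [0,2,0,2],
   [0,3,0,3],
   [0,4,0,5],
   [1,4,1,4],
   [2,3,2,3],
   [2,4,2,4],
   [0,3,4,0,5,3],
   [0,3,5,0,4,3],
   [1,2,1,2,1,2],
   [1,3,1,3,1,3],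
   [2,3,4,2,4,3],
   [3,4,3,4,3,4],
   [3,4,3,4,3,5,5],
   [0,1,2,1,2,1,0,2],
   [0,1,3,1,3,1,0,3],
   [1,2,1,2,1,3,2,3],
   [0,1,3,4,3,4,3,1,0,5],
   [1,2,4,2,1,3,4,3,4,3],
   [0,1,0,1,2,1,0,1,0,1,2,1,0,1,2],
   [0,1,0,1,0,1,0,1,2,1,0,1,0,1,0,1,0,1,2,1],
   [0,1,0,1,0,1,0,1,3,1,0,1,0,1,0,1,0,1,3,1],
   [0,1,0,1,0,1,0,1,3,1,0,1,0,1,0,1,0,3,1,3],
   [0,1,2,3,1,0,1,2,3,1,0,1,2,3,1,0,1,3,2,1],
   [0,1,3,4,1,4,3,1,0,2,5,3,1,0,4,0,1,3,5,2],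
   [0,1,0,1,2,1,0,1,0,2,1,0,1,2,3,1,0,3,0,1,3],
   [0,1,0,1,3,1,0,2,1,0,1,3,1,0,2,1,0,1,3,1,2],
   [0,1,0,1,3,1,0,2,1,0,3,1,0,2,1,3,1,0,1,3,2],
   [0,1,2,0,1,3,0,2,3,1,0,2,1,0,3,1,3,1,3,2,1]]

/-- The words of the subgroup. -/
def subs : List (List Nat) :=
  [[0],
   [1],
   [2],
   [3]]

end Cfsg.Agent.Lib.CosetCert.D.HeN.St0.Tab
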